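import Groth.Agent.Ega4fib.H177.Main

/-!
# EGA IV 15.3.1: assembling
-/

set_option autoImplicit false

universe u

namespace Groth.Agent.Ega4fib.H177.Adm

open CategoryTheory CategoryTheory.Limits AlgebraicGeometry IsLocalRing TopologicalSpace
open Groth.Agent.Ega43 Groth.Agent.Ega43.GeomAt

/-- The generic point of the unique irreducible component of the fibre through `x`. -/
theorem exists_point {X Y : Scheme.{u}} (f : X ⟶ Y) (x : X)
    (h1 : ∃! Zc : Set ↥(f.fiber (f x)), Zc ∈ irreducibleComponents (↥(f.fiber (f x)) : Type u) ∧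
      f.asFiber x ∈ Zc) :
    ∃ z : ↥(f.fiber (f x)), f.asFiber x ∈ closure {z} ∧
      (∀ z' : ↥(f.fiber (f x)), z ∈ closure {z'} → z' = z) ∧
      ∀ t : X, t ⤳ x → f t = f x → f.fiberι (f x) z ⤳ t := by
  obtain ⟨Zc, ⟨hZ, hxZ⟩, huniq⟩ := h1
  have hZc : IsClosed Zc := isClosed_of_mem_irreducibleComponents Zc hZ
  obtain ⟨z, hz⟩ := QuasiSober.sober hZ.1 hZc
  refine ⟨z, by rw [hz.def]; exact hxZ, fun z' hz' => ?_, fun t ht hft => ?_⟩
  · have h2 : closure {z'} ⊆ Zc := by
      refine hZ.2 isIrreducible_singleton.closure ?_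
      change Zc ⊆ closure {z'}
      rw [← hz.def]
      exact closure_minimal (Set.singleton_subset_iff.2 hz') isClosed_closure
    have h3 : z' ∈ closure {z} := by
      rw [hz.def]
      exact h2 (subset_closure rfl)
    exact ((specializes_iff_mem_closure.2 h3).antisymm (specializes_iff_mem_closure.2 hz')).eq.symm
  · have h2 : t ∈ Set.range (f.fiberι (f x)) := by
      rw [Scheme.Hom.range_fiberι]
      exact hft
    obtain ⟨t', rfl⟩ := h2
    have h3 : t' ⤳ f.asFiber x := by
      refine (f.fiberι (f x)).isEmbedding.isInducing.specializes_iff.mp ?_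
      rw [Scheme.Hom.fiberι_asFiber]
      exact ht
    have h4 : irreducibleComponent t' = Zc := by
      refine huniq _ ⟨irreducibleComponent_mem_irreducibleComponents t', ?_⟩
      exact h3.mem_closed isClosed_irreducibleComponent mem_irreducibleComponent
    have h5 : z ⤳ t' := by
      rw [specializes_iff_mem_closure, hz.def, ← h4]
      exact mem_irreducibleComponent
    exact h5.map (f.fiberι (f x)).continuous

theorem conclusion {X Y : Scheme.{u}} [IsLocallyNoetherian Y] (f : X ⟶ Y)
    [LocallyOfFiniteType f] (x : X)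
    (h1 : ∃! Zc : Set ↥(f.fiber (f x)), Zc ∈ irreducibleComponents (↥(f.fiber (f x)) : Type u) ∧
      f.asFiber x ∈ Zc)
    (h2 : ∀ z : ↥(f.fiber (f x)), f.asFiber x ∈ closure {z} →
      (∀ z' : ↥(f.fiber (f x)), z ∈ closure {z'} → z' = z) →
      FBase.IsGeomReducedAt (k := Y.residueField (f x)) (f.fiberToSpecResidueField (f x)) z)
    (X' : Closeds X) (hX' : (X' : Set X) ∈ irreducibleComponents (X : Type u)) (hx : x ∈ X')
    (hdim : FlatMor.localDim ↥((X' : Set X) ∩ f ⁻¹' {f x}) ⟨x, ⟨hx, Set.mem_singleton (f x)⟩⟩ =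
          FlatMor.fibreDimAt f x)
    (hopen : ∀ w : ↥(Scheme.IdealSheafData.vanishingIdeal X').subscheme,
          f ((Scheme.IdealSheafData.vanishingIdeal X').subschemeι w) = f x →
          x ∈ closure {(Scheme.IdealSheafData.vanishingIdeal X').subschemeι w} →
          (∀ t : X, t ∈ (X' : Set X) → f t = f x →
              (Scheme.IdealSheafData.vanishingIdeal X').subschemeι w ∈ closure {t} →
              t = (Scheme.IdealSheafData.vanishingIdeal X').subschemeι w) →
          EGA43.IsUnivOpenAt ((Scheme.IdealSheafData.vanishingIdeal X').subschemeι ≫ f) w) :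
    (∀ X'' : Closeds X, (X'' : Set X) ∈ irreducibleComponents (X : Type u) →
      (∀ z : ↥(f.fiber (f x)), f.asFiber x ∈ closure {z} →
        (∀ z' : ↥(f.fiber (f x)), z ∈ closure {z'} → z' = z) →
        (∀ t : X, t ⤳ x → f t = f x → f.fiberι (f x) z ⤳ t) → f.fiberι (f x) z ∈ X'') →
        X'' = X') ∧
    ∀ t : X, t ∈ (X' : Set X) → closure {t} = (X' : Set X) →
      GeomAt (fun R _ => _root_.IsReduced R) f t := by
  obtain ⟨z, hz1, hz2, hz3⟩ := exists_point f x h1
  have hP := GeomRedMain.isoClosed_isReduced.{u}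
  set p := f.fiberι (f x) z with hp
  have hpx : p ⤳ x := by
    have := (specializes_iff_mem_closure.2 hz1).map (f.fiberι (f x)).continuous
    rw [Scheme.Hom.fiberι_asFiber] at this
    exact this
  have hfp : f p = f x := by
    have : f.fiberι (f x) z ∈ Set.range (f.fiberι (f x)) := ⟨z, rfl⟩
    rw [Scheme.Hom.range_fiberι] at this
    exact this
  have hpgeom : GeomAt (fun R _ => _root_.IsReduced R) f p :=
    (Core.schFieldAt_fiber_iff hP f (f x) z).1 (h2 z hz1 hz2)
  have hmaxp : ∀ t : X, t ⤳ p → f t = f p → t = p := by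
    intro t ht hft
    exact (ht.antisymm (hz3 t (ht.trans hpx) (hft.trans hfp))).eq
  have hpX' : p ∈ X' := Dim.mem_of_localDim_eq f x p hpx hfp hz3 X' hX'.1 hx hdim
  let i := (Scheme.IdealSheafData.vanishingIdeal X').subschemeι
  have hrange : Set.range i = (X' : Set X) := by
    rw [Scheme.IdealSheafData.range_subschemeι]
    exact Scheme.IdealSheafData.coe_support_vanishingIdeal _
  have hred : IsReduced (Scheme.IdealSheafData.vanishingIdeal X').subscheme :=
    Ega1.ReducedSub.isReduced_subscheme_vanishingIdeal X'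
  have hirr : IrreducibleSpace (Scheme.IdealSheafData.vanishingIdeal X').subscheme := by
    have h1 : IsIrreducible (Set.range i) := by
      rw [hrange]; exact hX'.1
    have := Subtype.irreducibleSpace h1
    exact i.isClosedEmbedding.isEmbedding.toHomeomorph.irreducibleSpace_iff.mpr this
  have hint : IsIntegral (Scheme.IdealSheafData.vanishingIdeal X').subscheme :=
    isIntegral_of_irreducibleSpace_of_isReduced _
  obtain ⟨w, hw⟩ : p ∈ Set.range i := by rw [hrange]; exact hpX'
  have hopenw : EGA43.IsUnivOpenAt (i ≫ f) w := by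
    refine hopen w ?_ ?_ ?_
    · change f (i w) = f x
      rw [hw, hfp]
    · change x ∈ closure {i w}
      rw [hw]
      exact specializes_iff_mem_closure.1 hpx
    · intro t _ hft htc
      change i w ∈ closure {t} at htc
      change t = i w
      rw [hw] at htc ⊢
      exact hmaxp t (specializes_iff_mem_closure.2 htc) (hft.trans hfp.symm)
  obtain ⟨⟨γ, hγ1, hγ2⟩, hg⟩ := Main.main f i w hopenw (by rw [hw]; exact hmaxp)
    (by rw [hw]; exact hpgeom)
  rw [hw] at hγ1
  have hcomp : ∀ C : Closeds X, (C : Set X) ∈ irreducibleComponents (X : Type u) → p ∈ C →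
      (C : Set X) = closure {γ} := by
    intro C hC hpC
    obtain ⟨ξ, hξ⟩ := QuasiSober.sober hC.1 C.isClosed
    have h3 : ξ ⤳ p := by
      rw [specializes_iff_mem_closure, hξ.def]
      exact hpC
    have h4 : γ ⤳ ξ := hγ2 ξ (by rw [hw]; exact h3)
    have h5 : (C : Set X) ⊆ closure {γ} := by
      rw [← hξ.def]
      exact specializes_iff_closure_subset.mp h4
    exact Set.Subset.antisymm h5 (hC.2 isIrreducible_singleton.closure h5)
  refine ⟨fun X'' hX'' hX''p => ?_, fun t _ htc => ?_⟩
  · have h3 := hcomp X'' hX'' (hX''p z hz1 hz2 hz3)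
    have h4 := hcomp X' hX' hpX'
    exact SetLike.coe_injective (h3.trans h4.symm)
  · refine hg t ?_
    rw [hw, specializes_iff_mem_closure, htc]
    exact hpX'

end Groth.Agent.Ega4fib.H177.Adm
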