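import Groth.Agent.Ega4fib.H177.Core
import Groth.Agent.Ega4fib.H177.Dim
import Groth.Agent.Ega1.ReducedSub
import Groth.Agent.S0386
import Groth.Agent.S2549

/-!
# EGA IV 15.3.1: uniqueness of the component and geometric reducedness of the generic fibre
-/

set_option autoImplicit false

universe u

namespace Groth.Agent.Ega4fib.H177.Main

open CategoryTheory CategoryTheory.Limits AlgebraicGeometry IsLocalRing TopologicalSpace
open Groth.Agent.Ega43 Groth.Agent.Ega43.GeomAt

/-- The reduced case. `W → X` an integral closed subscheme, universally open over `Y` at `w`, `p = i w` maximal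
in its fibre and geometrically reduced there: `X` is locally irreducible at `p` and the points of `X`
specializing to `p` are geometrically reduced in their fibres. -/
theorem main_reduced {X W Y : Scheme.{u}} [IsLocallyNoetherian Y] [IsReduced Y]
    (f : X ⟶ Y) [LocallyOfFiniteType f] (i : W ⟶ X) [IsClosedImmersion i] [IsIntegral W] (w : W)
    (hopen : EGA43.IsUnivOpenAt (i ≫ f) w)
    (hmax : ∀ t : X, t ⤳ i w → f t = f (i w) → t = i w)
    (hred : GeomAt (fun R _ => _root_.IsReduced R) f (i w)) :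
    (∃ γ : X, γ ⤳ i w ∧ ∀ t : X, t ⤳ i w → γ ⤳ t) ∧
    ∀ t : X, t ⤳ i w → GeomAt (fun R _ => _root_.IsReduced R) f t := by
  obtain ⟨hbij, hflat⟩ := Core.flat_and_bijective f i w hopen hmax hred
  constructor
  · have hdom : IsDomain (W.presheaf.stalk w) := inferInstance
    have hdom' : IsDomain (X.presheaf.stalk (i w)) :=
      (RingEquiv.ofBijective (i.stalkMap w).hom hbij).toMulEquiv.isDomain _
    let z : Spec (X.presheaf.stalk (i w)) := ⟨⊥, Ideal.isPrime_bot⟩
    refine ⟨X.fromSpecStalk (i w) z, ?_, fun t ht => ?_⟩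
    · have h2 : X.fromSpecStalk (i w) z ∈ Set.range (X.fromSpecStalk (i w)) := ⟨z, rfl⟩
      rw [Scheme.range_fromSpecStalk] at h2
      exact h2
    · have h2 : t ∈ Set.range (X.fromSpecStalk (i w)) := by
        rw [Scheme.range_fromSpecStalk]
        exact ht
      obtain ⟨t', rfl⟩ := h2
      have h3 : z ⤳ t' := (PrimeSpectrum.le_iff_specializes z t').mp (bot_le (a := t'.asIdeal))
      exact h3.map (X.fromSpecStalk (i w)).continuous
  · intro t ht
    have hfp : LocallyOfFinitePresentation f := inferInstance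
    let U : X.Opens := ⟨{x | (f.stalkMap x).hom.Flat}, S0386.result f⟩
    have hiU : i w ∈ U := hflat
    have htU : t ∈ U := ht.mem_open U.2 hiU
    have hfl : Flat (U.ι ≫ f) := by
      refine Flat.of_stalkMap _ fun x => ?_
      rw [Scheme.Hom.stalkMap_comp]
      exact RingHom.Flat.comp x.2 (Flat.stalkMap U.ι x)
    have hO := S2549.result (U.ι ≫ f)
    have hP := GeomRedMain.isoClosed_isReduced.{u}
    have key : ∀ x : U, x ∈ {x : U | FBase.IsGeomReducedAt
        ((U.ι ≫ f).fiberToSpecResidueField ((U.ι ≫ f).base x)) ((U.ι ≫ f).asFiber x)} ↔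
        GeomAt (fun R _ => _root_.IsReduced R) f x.1 := by
      intro x
      have h1 := geomAt_fiber_iff hP (U.ι ≫ f) x
      exact h1.trans (geomAt_comp_openImmersion hP U.ι f x)
    have h3 : (⟨t, htU⟩ : U) ⤳ (⟨i w, hiU⟩ : U) := by
      rw [subtype_specializes_iff]
      exact ht
    exact (key ⟨t, htU⟩).1 (h3.mem_open hO ((key ⟨i w, hiU⟩).2 hred))

/-- The general case (`Y` not necessarily reduced). -/
theorem main {X W Y : Scheme.{u}} [IsLocallyNoetherian Y]
    (f : X ⟶ Y) [LocallyOfFiniteType f] (i : W ⟶ X) [IsClosedImmersion i] [IsIntegral W] (w : W)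
    (hopen : EGA43.IsUnivOpenAt (i ≫ f) w)
    (hmax : ∀ t : X, t ⤳ i w → f t = f (i w) → t = i w)
    (hred : GeomAt (fun R _ => _root_.IsReduced R) f (i w)) :
    (∃ γ : X, γ ⤳ i w ∧ ∀ t : X, t ⤳ i w → γ ⤳ t) ∧
    ∀ t : X, t ⤳ i w → GeomAt (fun R _ => _root_.IsReduced R) f t := by
  obtain ⟨Y₀, r, hri, hY₀, hr⟩ := Ega1.ReducedSub.exists_reduced_immersion (X := Y) Set.univ
    isClosed_univ.isLocallyClosed
  have hrc : IsClosedImmersion r := IsClosedImmersion.of_isPreimmersion r (by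
    rw [hr]; exact isClosed_univ)
  have hrs : Surjective r := ⟨Set.range_eq_univ.mp hr⟩
  have hN : IsLocallyNoetherian Y₀ := LocallyOfFiniteType.isLocallyNoetherian r
  let X₀ := pullback f r
  let a : X₀ ⟶ X := pullback.fst f r
  let f₀ : X₀ ⟶ Y₀ := pullback.snd f r
  have hsq : IsPullback a f₀ f r := IsPullback.of_hasPullback f r
  have hac : IsClosedImmersion a := inferInstanceAs (IsClosedImmersion (pullback.fst f r))
  have has : Surjective a := inferInstanceAs (Surjective (pullback.fst f r))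
  obtain ⟨i₀, hi₀⟩ := Ega1.ReducedSub.exists_factor_of_range_subset i a (by
    rw [Set.range_eq_univ.mpr a.surjective]; exact Set.subset_univ _)
  have hi₀c : IsClosedImmersion i₀ := by
    have : IsClosedImmersion (i₀ ≫ a) := by rw [hi₀]; infer_instance
    exact IsClosedImmersion.of_comp i₀ a
  have hiw : a (i₀ w) = i w := by rw [← Scheme.Hom.comp_apply, hi₀]
  have hinj : Function.Injective a := a.isClosedEmbedding.injective
  have hopen₀ : EGA43.IsUnivOpenAt (i₀ ≫ f₀) w := by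
    have h1 : IsPullback (𝟙 W) (i₀ ≫ f₀) ((i₀ ≫ f₀) ≫ r) (𝟙 Y₀ ≫ r) :=
      (isPullback_comp_mono_iff r).2 (IsPullback.of_horiz_isIso ⟨by simp⟩)
    have h2 : (i₀ ≫ f₀) ≫ r = i ≫ f := by
      rw [Category.assoc, ← hsq.w, ← Category.assoc, hi₀]
    rw [h2] at h1
    exact UnivOpenAt.isUnivOpenAt_of_isPullback hopen h1 w rfl
  have hmax₀ : ∀ t : X₀, t ⤳ i₀ w → f₀ t = f₀ (i₀ w) → t = i₀ w := by
    intro t ht hft
    apply hinj
    rw [hiw]
    refine hmax _ ?_ ?_
    · rw [← hiw]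
      exact ht.map a.continuous
    · rw [← hiw, ← Scheme.Hom.comp_apply, ← Scheme.Hom.comp_apply, hsq.w, Scheme.Hom.comp_apply,
        Scheme.Hom.comp_apply, hft]
  have hred₀ : GeomAt (fun R _ => _root_.IsReduced R) f₀ (i₀ w) := by
    refine GeomBC.geomAt_of_isPullback hsq (i₀ w) ?_
    change GeomAt (fun R _ => _root_.IsReduced R) f (a (i₀ w))
    rw [hiw]
    exact hred
  obtain ⟨⟨γ, hγ, hγ'⟩, hgeom⟩ := main_reduced f₀ i₀ w hopen₀ hmax₀ hred₀
  have hlift : ∀ t : X, t ⤳ i w → ∃ t₀ : X₀, a t₀ = t ∧ t₀ ⤳ i₀ w := by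
    intro t ht
    obtain ⟨t₀, rfl⟩ := a.surjective t
    refine ⟨t₀, rfl, ?_⟩
    rw [← hiw] at ht
    exact a.isClosedEmbedding.isInducing.specializes_iff.mp ht
  refine ⟨⟨a γ, ?_, ?_⟩, ?_⟩
  · rw [← hiw]
    exact hγ.map a.continuous
  · intro t ht
    obtain ⟨t₀, rfl, ht₀⟩ := hlift t ht
    exact (hγ' t₀ ht₀).map a.continuous
  · intro t ht
    obtain ⟨t₀, rfl, ht₀⟩ := hlift t ht
    intro K _ Z c d j hZ z hz
    -- `j` factors through `Y₀`
    obtain ⟨j₀, rfl⟩ := Ega1.ReducedSub.exists_factor_of_range_subset j r (by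
      rw [hr]; exact Set.subset_univ _)
    -- `Z = X₀ ×_{Y₀} Spec K`
    let c₀ : Z ⟶ X₀ := hsq.lift c (d ≫ j₀) (by rw [hZ.w, Category.assoc])
    have hc₀ : c₀ ≫ a = c := hsq.lift_fst _ _ _
    have hc₀' : c₀ ≫ f₀ = d ≫ j₀ := hsq.lift_snd _ _ _
    have hZ₀ : IsPullback c₀ d f₀ j₀ := by
      refine IsPullback.of_right (h₁₂ := a) (h₂₂ := r) (v₁₃ := f) ?_ hc₀' hsq
      rw [hc₀]
      exact hZ
    refine hgeom t₀ ht₀ K Z c₀ d j₀ hZ₀ z ?_
    apply hinj
    rw [← hz]
    change a (c₀ z) = c z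
    rw [← Scheme.Hom.comp_apply, hc₀]

end Groth.Agent.Ega4fib.H177.Main
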